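import Groth.Prelude.Def_CoactBr
import Groth.Agent.UnipHopfLib.Primitive
import Groth.Agent.HenselLib.SmoothLift
import Mathlib.RingTheory.DiscreteValuationRing.Basic
import Mathlib.RingTheory.Jacobson.Ring
import Mathlib.RingTheory.Smooth.Basic
import Mathlib.RingTheory.Nakayama
import Groth.Agent.S9407
import Mathlib.FieldTheory.IsAlgClosed.Basic

/-!
Integral additive parameters of smooth models of the additive group.
-/

set_option autoImplicit false
set_option linter.style.haveILetI false
set_option backward.isDefEq.respectTransparency false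
set_option maxHeartbeats 1000000

noncomputable section

universe u

open Polynomial WithConv
open scoped TensorProduct

namespace GaComp

variable {R : Type u} [CommRing R] (K : Type u) [Field K] [Algebra R K] {C : Type u} [CommRing C]

/-- The comparison of a tensor square with the tensor square of the generic fibre. -/
def tmap (S : Type u) [CommRing S] [Algebra R S] : S ⊗[R] S →ₐ[R] (K ⊗[R] S) ⊗[K] (K ⊗[R] S) :=
  Algebra.TensorProduct.lift
    ((Algebra.TensorProduct.includeLeft (R := K) (S := K)).restrictScalars R |>.comp Algebra.TensorProduct.includeRight)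
    ((Algebra.TensorProduct.includeRight (R := K)).restrictScalars R |>.comp Algebra.TensorProduct.includeRight)
    fun _ _ => Commute.all _ _

theorem tmap_tmul {S : Type u} [CommRing S] [Algebra R S] (a b : S) :
    tmap K S (a ⊗ₜ b) = ((1 : K) ⊗ₜ[R] a) ⊗ₜ[K] ((1 : K) ⊗ₜ[R] b) := by
  simp [tmap, Algebra.TensorProduct.tmul_mul_tmul]

theorem tmap_injective [IsDomain R] [IsFractionRing R K] (S : Type u) [CommRing S] [Algebra R S] [Module.Flat R S] :
    Function.Injective (tmap K S (R := R)) := by
  let τ : S ⊗[R] S →ₐ[R] K ⊗[R] (S ⊗[R] S) := Algebra.TensorProduct.includeRight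
  have hτ : Function.Injective τ := Algebra.TensorProduct.includeRight_injective (IsFractionRing.injective R K)
  let θ : K ⊗[R] (S ⊗[R] S) →ₐ[K] (K ⊗[R] S) ⊗[K] (K ⊗[R] S) :=
    Algebra.TensorProduct.lift (Algebra.ofId K _) (tmap K S) fun _ _ => Commute.all _ _
  let θ' : (K ⊗[R] S) ⊗[K] (K ⊗[R] S) →ₐ[K] K ⊗[R] (S ⊗[R] S) :=
    Algebra.TensorProduct.lift (Algebra.TensorProduct.map (AlgHom.id K K) Algebra.TensorProduct.includeLeft)
      (Algebra.TensorProduct.map (AlgHom.id K K) Algebra.TensorProduct.includeRight) fun _ _ => Commute.all _ _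
  have hθ : θ'.comp θ = AlgHom.id K _ := by
    ext <;> simp [θ, θ', tmap, Algebra.TensorProduct.tmul_mul_tmul]
  intro a b h
  apply hτ
  have e : ∀ z, θ (τ z) = tmap K S z := fun z => by
    show θ ((1 : K) ⊗ₜ[R] z) = _
    refine (Algebra.TensorProduct.lift_tmul _ _ _ _ _).trans ?_
    rw [map_one, one_mul]
  have h' := congrArg θ' ((e a).trans (h.trans (e b).symm))
  rwa [← AlgHom.comp_apply, ← AlgHom.comp_apply, hθ] at h'

theorem tmap_comul {S : Type u} [CommRing S] [Bialgebra R S] (c : S) :
    tmap K S (CoalgebraStruct.comul (R := R) c) = CoalgebraStruct.comul (R := K) ((1 : K) ⊗ₜ[R] c) := by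
  rw [TensorProduct.comul_tmul, CommSemiring.comul_apply]
  generalize CoalgebraStruct.comul (R := R) c = z
  induction z using TensorProduct.induction_on with
  | zero => simp
  | add a b ha hb => simp only [map_add, TensorProduct.tmul_add, ha, hb]
  | tmul a b => simp [tmap_tmul]

theorem tmap_map [Algebra R C] {S : Type u} [CommRing S] [Algebra R S] (φ : C →ₐ[R] S) (z : C ⊗[R] C) :
    tmap K S (Algebra.TensorProduct.map φ φ z) =
      Algebra.TensorProduct.map (Algebra.TensorProduct.map (AlgHom.id K K) φ)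
        (Algebra.TensorProduct.map (AlgHom.id K K) φ) (tmap K C z) := by
  induction z using TensorProduct.induction_on with
  | zero => simp
  | add a b ha hb => simp only [map_add, ha, hb]
  | tmul a b => simp [tmap_tmul]

variable [IsDomain R] [IsFractionRing R K] [HopfAlgebra R C] [Module.Flat R C]

/-- The generic fibre has an integral additive generator. -/
theorem exists_generator (y : K ⊗[R] C)
    (hy : CoalgebraStruct.comul (R := K) y = y ⊗ₜ[K] (1 : K ⊗[R] C) + (1 : K ⊗[R] C) ⊗ₜ[K] y)
    (hb : Function.Bijective (aeval y : K[X] →ₐ[K] K ⊗[R] C)) :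
    ∃ x : C, CoalgebraStruct.comul (R := R) x = x ⊗ₜ[R] (1 : C) + (1 : C) ⊗ₜ[R] x ∧
      Function.Bijective (aeval ((1 : K) ⊗ₜ[R] x) : K[X] →ₐ[K] K ⊗[R] C) := by
  obtain ⟨r, hr, x, hx⟩ : ∃ r : R, r ≠ 0 ∧ ∃ x : C, (1 : K) ⊗ₜ[R] x = algebraMap R K r • y := by
    clear hy hb
    induction y using TensorProduct.induction_on with
    | zero => exact ⟨1, one_ne_zero, 0, by simp⟩
    | tmul a c =>
      obtain ⟨b, s, hs, rfl⟩ := IsFractionRing.div_surjective (A := R) a
      refine ⟨s, nonZeroDivisors.ne_zero hs, b • c, ?_⟩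
      rw [TensorProduct.tmul_smul, TensorProduct.smul_tmul', TensorProduct.smul_tmul', smul_eq_mul,
        mul_div_cancel₀ _ (by simpa using nonZeroDivisors.ne_zero hs), Algebra.smul_def, mul_one]
    | add p q hp hq =>
      obtain ⟨r, hr, a, ha⟩ := hp
      obtain ⟨s, hs, b, hb⟩ := hq
      refine ⟨r * s, mul_ne_zero hr hs, s • a + r • b, ?_⟩
      rw [TensorProduct.tmul_add, TensorProduct.tmul_smul, TensorProduct.tmul_smul, ha, hb, map_mul, smul_add,
        ← algebraMap_smul K s, ← algebraMap_smul K r, smul_smul, smul_smul, mul_comm (algebraMap R K s)]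
  set u := algebraMap R K r
  have hu : u ≠ 0 := fun h => hr (IsFractionRing.injective R K (h.trans (map_zero _).symm))
  refine ⟨x, tmap_injective K C ?_, ?_⟩
  · rw [tmap_comul, hx, map_smul, hy, map_add, tmap_tmul, tmap_tmul, hx, ← Algebra.TensorProduct.one_def,
      smul_add, TensorProduct.smul_tmul', ← TensorProduct.tmul_smul]
  · have h : ∀ P : K[X], aeval ((1 : K) ⊗ₜ[R] x) P = aeval y (P.comp (Polynomial.C u * X)) := fun P => by
      rw [aeval_comp, map_mul, aeval_C, aeval_X, ← Algebra.smul_def, hx]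
    refine ⟨fun P Q hPQ => ?_, fun z => ?_⟩
    · rw [h, h] at hPQ
      have h1 := congrArg (fun p : K[X] => p.comp (Polynomial.C u⁻¹ * X)) (hb.1 hPQ)
      simpa [comp_assoc, ← mul_assoc, ← map_mul, mul_inv_cancel₀ hu] using h1
    · obtain ⟨P, rfl⟩ := hb.2 z
      refine ⟨P.comp (Polynomial.C u⁻¹ * X), ?_⟩
      rw [h]
      simp [comp_assoc, ← mul_assoc, ← map_mul, inv_mul_cancel₀ hu]

variable [IsDiscreteValuationRing R]

/-- A polynomial with integral values at infinitely many residues is integral. -/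
theorem exists_integral {S : Set (IsLocalRing.ResidueField R)} (hS : S.Infinite) (p : K[X])
    (h : ∀ s ∈ S, ∃ r : R, IsLocalRing.residue R r = s ∧ ∃ v : R, p.eval (algebraMap R K r) = algebraMap R K v) :
    ∃ q : R[X], q.map (algebraMap R K) = p := by
  obtain ⟨π, hπ⟩ := IsDiscreteValuationRing.exists_irreducible R
  have hπK : algebraMap R K π ≠ 0 := fun e => hπ.ne_zero (IsFractionRing.injective R K (e.trans (map_zero _).symm))
  obtain ⟨b, hb⟩ := IsLocalization.integerNormalization_map_to_map (nonZeroDivisors R) p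
  obtain ⟨N, w, hw⟩ := IsDiscreteValuationRing.eq_unit_mul_pow_irreducible (nonZeroDivisors.ne_zero b.2) hπ
  have hdesc : ∀ (N : ℕ) (Q : R[X]), Q.map (algebraMap R K) = Polynomial.C (algebraMap R K π ^ N) * p →
      ∃ q : R[X], q.map (algebraMap R K) = p := by
    intro N
    induction N with
    | zero => exact fun Q hQ => ⟨Q, by rw [hQ, pow_zero, map_one, one_mul]⟩
    | succ N ih =>
      intro Q hQ
      have hzero : Q.map (IsLocalRing.residue R) = 0 := by
        refine eq_zero_of_infinite_isRoot _ (hS.mono fun s hs => ?_)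
        obtain ⟨r, rfl, v, hv⟩ := h s hs
        have e : Q.eval r = π ^ (N + 1) * v := IsFractionRing.injective R K (by
          rw [← eval₂_at_apply, ← eval_map, hQ, eval_mul, eval_C, hv, map_mul, map_pow])
        show IsRoot _ _
        rw [IsRoot, eval_map, eval₂_at_apply, e, map_mul, map_pow, (IsLocalRing.residue_eq_zero_iff π).2 hπ.not_isUnit,
          zero_pow N.succ_ne_zero, zero_mul]
      obtain ⟨Q', rfl⟩ := (Polynomial.C_dvd_iff_dvd_coeff π Q).2 fun i => by
        have h' := congrArg (fun p => p.coeff i) hzero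
        simp only [coeff_map, coeff_zero, IsLocalRing.residue_eq_zero_iff] at h'
        rwa [hπ.maximalIdeal_eq, Ideal.mem_span_singleton] at h'
      refine ih Q' (mul_left_cancel₀ (C_ne_zero.2 hπK) ?_)
      rw [← mul_assoc, ← map_mul, ← pow_succ', ← hQ, Polynomial.map_mul, Polynomial.map_C]
  refine hdesc N (Polynomial.C (↑w⁻¹ : R) * IsLocalization.integerNormalization (nonZeroDivisors R) p) ?_
  rw [Polynomial.map_mul, Polynomial.map_C, hb]
  rw [← algebraMap_smul K, Polynomial.smul_eq_C_mul, ← mul_assoc, ← map_mul, ← map_mul, hw, ← mul_assoc,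
    Units.inv_mul, one_mul, map_pow]


omit [IsFractionRing R K] [HopfAlgebra R C] [Module.Flat R C] in
theorem residue_smul_tmul [Algebra R C] (z : IsLocalRing.ResidueField R ⊗[R] C) :
    ∃ c : C, (1 : IsLocalRing.ResidueField R) ⊗ₜ[R] c = z := by
  induction z using TensorProduct.induction_on with
  | zero => exact ⟨0, TensorProduct.tmul_zero _ _⟩
  | tmul a c =>
    obtain ⟨r, rfl⟩ := IsLocalRing.residue_surjective a
    refine ⟨r • c, ?_⟩
    rw [TensorProduct.tmul_smul, TensorProduct.smul_tmul']
    congr 1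
    exact (Algebra.algebraMap_eq_smul_one r).symm
  | add a b ha hb =>
    obtain ⟨a', rfl⟩ := ha; obtain ⟨b', rfl⟩ := hb
    exact ⟨a' + b', TensorProduct.tmul_add _ _ _⟩

omit [HopfAlgebra R C] [Module.Flat R C] [IsFractionRing R K] in
theorem exists_dvd_of_tmul_eq_zero [Algebra R C] {π : R} (hπ : Irreducible π) (z : C)
    (hz : (1 : IsLocalRing.ResidueField R) ⊗ₜ[R] z = 0) : ∃ w, z = algebraMap R C π * w := by
  let n := Ideal.map (algebraMap R C) (IsLocalRing.maximalIdeal R)
  let L1 : IsLocalRing.ResidueField R →ₐ[R] C ⧸ n :=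
    { Ideal.Quotient.lift (IsLocalRing.maximalIdeal R) (algebraMap R (C ⧸ n)) fun a ha => by
        rw [← Ideal.Quotient.mk_algebraMap, Ideal.Quotient.eq_zero_iff_mem]
        exact Ideal.mem_map_of_mem _ ha with
      commutes' := fun r => rfl }
  let L : IsLocalRing.ResidueField R ⊗[R] C →ₐ[R] C ⧸ n :=
    Algebra.TensorProduct.lift L1 (Ideal.Quotient.mkₐ R n) fun _ _ => Commute.all _ _
  have h' := congrArg L hz
  rw [map_zero, Algebra.TensorProduct.lift_tmul, map_one, one_mul, Ideal.Quotient.mkₐ_eq_mk,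
    Ideal.Quotient.eq_zero_iff_mem] at h'
  rw [show n = Ideal.span {algebraMap R C π} by
    show Ideal.map _ _ = _
    rw [hπ.maximalIdeal_eq, Ideal.map_span, Set.image_singleton]] at h'
  exact Ideal.mem_span_singleton.1 h'

omit [IsDomain R] [Module.Flat R C] [IsDiscreteValuationRing R] in
theorem counit_eq_zero (x : C)
    (hx : CoalgebraStruct.comul (R := R) x = x ⊗ₜ[R] (1 : C) + (1 : C) ⊗ₜ[R] x) :
    Bialgebra.counitAlgHom R C x = 0 := by
  have h := congrArg (TensorProduct.lid R C) (Coalgebra.rTensor_counit_comul (R := R) x)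
  rw [hx] at h
  simp only [map_add, LinearMap.rTensor_tmul, TensorProduct.lid_tmul, Bialgebra.counit_one, one_smul,
    add_eq_right] at h
  have h' := congrArg (Bialgebra.counitAlgHom R C) h
  simp only [map_smul, map_one, smul_eq_mul, mul_one, map_zero] at h'
  exact h'

/-- The comparison with polynomials over the generic fibre. -/
def poly (x : C) (hx : Function.Bijective (aeval ((1 : K) ⊗ₜ[R] x) : K[X] →ₐ[K] K ⊗[R] C)) : C →ₐ[R] K[X] :=
  ((AlgEquiv.ofBijective (aeval ((1 : K) ⊗ₜ[R] x)) hx).symm.toAlgHom.restrictScalars R).comp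
    Algebra.TensorProduct.includeRight

theorem aeval_poly (x : C) (hx : Function.Bijective (aeval ((1 : K) ⊗ₜ[R] x) : K[X] →ₐ[K] K ⊗[R] C)) (c : C) :
    aeval ((1 : K) ⊗ₜ[R] x) (poly K x hx c) = (1 : K) ⊗ₜ[R] c :=
  (AlgEquiv.ofBijective (aeval ((1 : K) ⊗ₜ[R] x)) hx).apply_symm_apply _

theorem poly_self (x : C) (hx : Function.Bijective (aeval ((1 : K) ⊗ₜ[R] x) : K[X] →ₐ[K] K ⊗[R] C)) :
    poly K x hx x = X :=
  hx.1 (by rw [aeval_poly, aeval_X])

/-- Points are determined by their parameter. -/
theorem eval_poly (x : C) (hx : Function.Bijective (aeval ((1 : K) ⊗ₜ[R] x) : K[X] →ₐ[K] K ⊗[R] C))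
    (g : C →ₐ[R] R) (c : C) : (poly K x hx c).eval (algebraMap R K (g x)) = algebraMap R K (g c) := by
  have h := congrArg (Algebra.TensorProduct.lift (AlgHom.id K K) ((Algebra.ofId R K).comp g) fun _ _ => Commute.all _ _)
    (aeval_poly K x hx c)
  rw [← aeval_algHom_apply] at h
  simp only [Algebra.TensorProduct.lift_tmul, AlgHom.id_apply, one_mul, AlgHom.comp_apply] at h
  exact h

variable [Algebra.Smooth R C]

/-- The points of the special fibre of a model are infinite. -/
theorem infinite_points [IsAlgClosed (IsLocalRing.ResidueField R)] (x : C)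
    (hxp : CoalgebraStruct.comul (R := R) x = x ⊗ₜ[R] (1 : C) + (1 : C) ⊗ₜ[R] x)
    (hx : Function.Bijective (aeval ((1 : K) ⊗ₜ[R] x) : K[X] →ₐ[K] K ⊗[R] C)) :
    Infinite (C →ₐ[R] IsLocalRing.ResidueField R) := by
  refine not_finite_iff_infinite.1 fun hfin => ?_
  let k := IsLocalRing.ResidueField R
  let A := k ⊗[R] C
  haveI : Algebra.Smooth k A := inferInstance
  haveI : IsReduced A := Groth.Agent.S9407.result k A
  haveI : IsJacobsonRing A := isJacobsonRing_of_finiteType (A := k)
  have hmax : {P : Ideal A | P.IsMaximal}.Finite := by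
    haveI := hfin
    refine Set.Finite.subset (Set.finite_range fun g : C →ₐ[R] k =>
      RingHom.ker (Algebra.TensorProduct.lift (AlgHom.id k k) g fun _ _ => Commute.all _ _).toRingHom) ?_
    intro P (hP : P.IsMaximal)
    haveI := hP
    letI := Ideal.Quotient.field P
    haveI : Module.Finite k (A ⧸ P) := finite_of_finite_type_of_isJacobsonRing k (A ⧸ P)
    let e : k ≃ₐ[k] A ⧸ P :=
      AlgEquiv.ofBijective (Algebra.ofId k (A ⧸ P)) IsAlgClosed.algebraMap_bijective_of_isIntegral
    let g : A →ₐ[k] k := e.symm.toAlgHom.comp (Ideal.Quotient.mkₐ k P)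
    refine ⟨(g.restrictScalars R).comp Algebra.TensorProduct.includeRight, ?_⟩
    have hg : Algebra.TensorProduct.lift (AlgHom.id k k) ((g.restrictScalars R).comp Algebra.TensorProduct.includeRight)
        (fun _ _ => Commute.all _ _) = g := by
      refine Algebra.TensorProduct.ext' fun a c => ?_
      rw [Algebra.TensorProduct.lift_tmul]
      show a * g ((1 : k) ⊗ₜ[R] c) = g (a ⊗ₜ[R] c)
      rw [← smul_eq_mul, ← map_smul, TensorProduct.smul_tmul', smul_eq_mul, mul_one]
    show RingHom.ker _ = P
    rw [hg]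
    refine Ideal.ext fun z => ?_
    show g z = 0 ↔ z ∈ P
    simp [g, Ideal.Quotient.eq_zero_iff_mem]
  let ε : C →ₐ[R] R := Bialgebra.counitAlgHom R C
  let m : Ideal C := RingHom.ker ε
  let εk : A →ₐ[k] k := Algebra.TensorProduct.lift (AlgHom.id k k) ((Algebra.ofId R k).comp ε) fun _ _ => Commute.all _ _
  let M : Ideal A := RingHom.ker εk
  haveI hM : M.IsMaximal := RingHom.ker_isMaximal_of_surjective εk fun a => ⟨algebraMap k A a, εk.commutes a⟩
  have hMM : ∀ c ∈ M, c ∈ M * M := by
    classical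
    intro c hc
    let s := hmax.toFinset.erase M
    let I : Ideal A := ⨅ P ∈ s, P
    have htop : M ⊔ I = ⊤ := Ideal.sup_iInf_eq_top fun P hP => by
      rw [Finset.mem_erase, Set.Finite.mem_toFinset] at hP
      exact hM.coprime_of_ne hP.2 hP.1.symm
    obtain ⟨a, ha, b, hb, hab⟩ := Submodule.mem_sup.1 (htop ▸ Submodule.mem_top : (1 : A) ∈ M ⊔ I)
    have h0 : c * b = 0 := by
      have h1 : c * b ∈ Ideal.jacobson (⊥ : Ideal A) := by
        rw [Ideal.jacobson, Submodule.mem_sInf]
        rintro P ⟨-, hP⟩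
        by_cases hPM : P = M
        · subst hPM; exact Ideal.mul_mem_right _ _ hc
        · have hPs : P ∈ s := Finset.mem_erase.2 ⟨hPM, hmax.mem_toFinset.2 hP⟩
          refine Ideal.mul_mem_left _ _ ?_
          simp only [I, Submodule.mem_iInf] at hb
          exact hb P hPs
      have hr : (⊥ : Ideal A).IsRadical := fun z hz => by
        obtain ⟨n, hn⟩ := hz
        exact IsReduced.eq_zero z ⟨n, hn⟩
      rwa [IsJacobsonRing.out' (⊥ : Ideal A) hr, Ideal.mem_bot] at h1
    have : c = c * a + c * b := by rw [← mul_add, hab, mul_one]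
    rw [this, h0, add_zero]
    exact Ideal.mul_mem_mul hc ha
  obtain ⟨π, hπ⟩ := IsDiscreteValuationRing.exists_irreducible R
  have hπk : algebraMap R k π = 0 := (IsLocalRing.residue_eq_zero_iff π).2 hπ.not_isUnit
  let q : C →ₐ[R] A := Algebra.TensorProduct.includeRight
  have hεq : ∀ c, εk (q c) = algebraMap R k (ε c) := fun c => by
    show εk ((1 : k) ⊗ₜ[R] c) = _
    refine (Algebra.TensorProduct.lift_tmul _ _ _ _ _).trans ?_
    rw [map_one, one_mul]
    rfl
  have hM' : M ≤ Ideal.map q m := fun z hz => by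
    obtain ⟨c, rfl⟩ := residue_smul_tmul z
    have h1 : algebraMap R k (ε c) = 0 := (hεq c).symm.trans hz
    have h2 : q c = q (c - algebraMap R C (ε c)) := by
      rw [map_sub, q.commutes, IsScalarTower.algebraMap_apply R k A, h1, map_zero, sub_zero]
    show q c ∈ _
    rw [h2]
    refine Ideal.mem_map_of_mem _ ?_
    show ε _ = 0
    rw [map_sub, AlgHom.commutes, Algebra.algebraMap_self, RingHom.id_apply, sub_self]
  have hqs : Function.Surjective q := fun z => residue_smul_tmul z
  -- the tangent line at the unit point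
  let D : C →ₗ[R] K := ((lcoeff K 1).restrictScalars R) ∘ₗ (poly K x hx).toLinearMap
  have h0 : ∀ c, (poly K x hx c).coeff 0 = algebraMap R K (ε c) := fun c => by
    rw [coeff_zero_eq_eval_zero, ← eval_poly K x hx ε c, show ε x = 0 from counit_eq_zero x hxp, map_zero]
  have hD : ∀ a b : C, D (a * b) = ε a • D b + ε b • D a := fun a b => by
    show (poly K x hx (a * b)).coeff 1 = ε a • (poly K x hx b).coeff 1 + ε b • (poly K x hx a).coeff 1
    rw [map_mul, Algebra.smul_def, Algebra.smul_def, ← h0, ← h0, mul_coeff_one]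
    ring
  have hD2 : ∀ c ∈ m * m, D c = 0 := fun c hc => by
    refine Submodule.mul_induction_on hc (fun a ha b hb => ?_) fun a b ha hb => by rw [map_add, ha, hb, add_zero]
    rw [hD, show ε a = 0 from ha, show ε b = 0 from hb, zero_smul, zero_smul, add_zero]
  haveI : IsNoetherianRing C := Algebra.FiniteType.isNoetherianRing R C
  obtain ⟨s, hs⟩ := (IsNoetherian.noetherian m : m.FG)
  let N : Submodule R K := Submodule.span R (D '' s)
  have hN : ∀ c ∈ m, D c ∈ N := fun c hc => by
    have hc' : c ∈ Submodule.span C (s : Set C) := hs.symm ▸ hc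
    induction hc' using Submodule.span_induction with
    | mem y hy => exact Submodule.subset_span ⟨y, hy, rfl⟩
    | zero => rw [map_zero]; exact N.zero_mem
    | add a b ha hb h1 h2 => rw [map_add]; exact N.add_mem (h1 (hs ▸ ha)) (h2 (hs ▸ hb))
    | smul t a ha h1 =>
      have ha' : a ∈ m := hs ▸ ha
      rw [smul_eq_mul, hD, show ε a = 0 from ha', zero_smul, add_zero]
      exact N.smul_mem _ (h1 ha')
  have hsub : ∀ c ∈ m, ∃ w ∈ m, D c = π • D w := fun c hc => by
    have h1 : q c ∈ Ideal.map q (m * m) := by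
      rw [Ideal.map_mul]
      exact Ideal.mul_mono hM' hM' (hMM _ (by
        show εk (q c) = 0
        rw [hεq, show ε c = 0 from hc, map_zero]))
    obtain ⟨d, hd, hdc⟩ := (Ideal.mem_map_iff_of_surjective q hqs).1 h1
    obtain ⟨w, hw⟩ := exists_dvd_of_tmul_eq_zero hπ (c - d) (show q (c - d) = 0 by rw [map_sub, hdc, sub_self])
    have hdm : d ∈ m := Ideal.mul_le_right hd
    have hwm : ε w = 0 := by
      have h := congrArg ε hw
      rw [map_sub, show ε c = 0 from hc, show ε d = 0 from hdm, sub_zero, map_mul, AlgHom.commutes,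
        Algebra.algebraMap_self, RingHom.id_apply] at h
      exact (mul_eq_zero.1 h.symm).resolve_left hπ.ne_zero
    refine ⟨w, hwm, ?_⟩
    rw [show c = d + algebraMap R C π * w by rw [← hw]; ring, map_add, hD2 d hd, zero_add, ← Algebra.smul_def,
      map_smul]
  have hle : N ≤ IsLocalRing.maximalIdeal R • N := Submodule.span_le.2 fun y ⟨c, hc, hy⟩ => by
    obtain ⟨w, hw, e⟩ := hsub c (hs ▸ Submodule.subset_span hc)
    rw [← hy, SetLike.mem_coe, e]
    exact Submodule.smul_mem_smul (show π ∈ IsLocalRing.maximalIdeal R from hπ.not_isUnit) (hN w hw)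
  have hbot : N = ⊥ := Submodule.eq_bot_of_le_smul_of_le_jacobson_bot _ N
    (Submodule.fg_span (s.finite_toSet.image _)) hle (IsLocalRing.maximalIdeal_le_jacobson _)
  have h1 := hN x (counit_eq_zero x hxp)
  rw [hbot, Submodule.mem_bot] at h1
  have h2 : D x = 1 := by
    show (poly K x hx x).coeff 1 = 1
    rw [poly_self, coeff_X_one]
  exact one_ne_zero (h2.symm.trans h1)

end GaComp

end
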