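import Groth.Agent.GmCompLib.Main
import Groth.Agent.BigCellLib.Commute

/-!
Component groups of smooth models of the additive group in positive residue characteristic.
-/

set_option autoImplicit false
set_option linter.style.haveILetI false
set_option backward.isDefEq.respectTransparency false
set_option backward.isDefEq.respectTransparency.types false
set_option maxHeartbeats 1000000

noncomputable section

universe u

open CategoryTheory CategoryTheory.Limits MonoidalCategory CartesianMonoidalCategory AlgebraicGeometry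
open scoped MonObj
open PowEtCentralLib (adjEquiv)
open Groth.Agent

attribute [-instance] CategoryTheory.Hom.commGroup

namespace GaComp

theorem isCommMonObj_Ga (S : Scheme.{u}) : IsCommMonObj (Red.Ga S) := by
  constructor
  rw [MonObj.mul_eq_mul, MonObj.comp_mul]
  refine GaPts.gaFn_injective ?_
  show Red.gaFn _ = Red.gaFn _
  rw [GaPts.gaFn_mul, GaPts.gaFn_mul, add_comm]
  simp

variable {R : Type u} [CommRing R] [IsDomain R] [IsLocalRing R] [HenselianLocalRing R]
  {K : Type u} [Field K] [CharZero K] [Algebra R K] [IsFractionRing R K]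

local notation "sq" => Spec.map (CommRingCat.ofHom (IsLocalRing.residue R))
local notation "ξK" => Spec.map (CommRingCat.ofHom (algebraMap R K))

theorem isCommMonObj_model (G : Over (Spec (CommRingCat.of R))) [GrpObj G] [Smooth G.hom] [IsSeparated G.hom]
    (e : Red.bc ξK G ≅ Red.Ga (Spec (CommRingCat.of K))) [IsMonHom e.hom] : IsCommMonObj G := by
  haveI := GmComp.schDom (R := R) (K := K)
  haveI : Flat (G ⊗ G).hom := by
    have h : Flat ((fst G G).left ≫ G.hom) := by
      haveI : Flat (fst G G).left := inferInstanceAs (Flat (Limits.pullback.fst G.hom G.hom))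
      infer_instance
    rwa [Over.w] at h
  haveI : Mono e.hom := inferInstance
  haveI := isCommMonObj_Ga (Spec (CommRingCat.of K))
  haveI : IsCommMonObj (Red.bc ξK G) := AntiAffLib.CommCat.isComm_of_mono e.hom
  exact Groth.Agent.S4059.isCommMonObj_of_generic G ξK (h := ‹IsCommMonObj (Red.bc ξK G)›)

/-- Points over the base have no torsion. -/
theorem eq_one_of_pow_eq_one (G : Over (Spec (CommRingCat.of R))) [GrpObj G] [IsSeparated G.hom]
    (e : Red.bc ξK G ≅ Red.Ga (Spec (CommRingCat.of K))) [IsMonHom e.hom] {n : ℕ} (hn : n ≠ 0)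
    (σ : Over.mk (𝟙 (Spec (CommRingCat.of R))) ⟶ G) (hσ : σ ^ n = 1) : σ = 1 := by
  let Y : Over (Spec (CommRingCat.of K)) := Over.mk (𝟙 _)
  let h : (Over.map ξK).obj Y ⟶ Over.mk (𝟙 (Spec (CommRingCat.of R))) :=
    Over.homMk ξK (by show ξK ≫ 𝟙 _ = 𝟙 _ ≫ ξK; simp)
  let pts : (Over.mk (𝟙 (Spec (CommRingCat.of R))) ⟶ G) → (Y ⟶ Red.Ga (Spec (CommRingCat.of K))) :=
    fun σ => adjEquiv (G := G) ξK Y (h ≫ σ) ≫ e.hom
  have hpow : pts σ ^ n = 1 := by
    show (adjEquiv (G := G) ξK Y (h ≫ σ) ≫ e.hom) ^ n = 1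
    rw [← MonObj.pow_comp, ← map_pow, ← MonObj.comp_pow, hσ, MonObj.comp_one, map_one, MonObj.one_comp]
  have h0 : pts σ = 1 := GaPts.gaFn_injective (by
    show Red.gaFn _ = Red.gaFn _
    have h1 := congrArg Red.gaFn hpow
    rw [GmComp.gaFn_pow, GaPts.gaFn_one] at h1
    rw [GaPts.gaFn_one]
    have h2 := congrArg (Scheme.ΓSpecIso (CommRingCat.of K)).hom h1
    rw [map_nsmul, map_zero, nsmul_eq_mul] at h2
    refine (ConcreteCategory.bijective_of_isIso (Scheme.ΓSpecIso (CommRingCat.of K)).hom).1 ?_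
    rw [map_zero]
    exact (mul_eq_zero.1 h2).resolve_left (Nat.cast_ne_zero.2 hn))
  have h1 : adjEquiv (G := G) ξK Y (h ≫ σ) = 1 := (cancel_mono e.hom).1 (h0.trans (MonObj.one_comp _).symm)
  have h2 : h ≫ σ = h ≫ 1 := by
    rw [MonObj.comp_one]
    exact (adjEquiv (G := G) ξK Y).injective (h1.trans (map_one _).symm)
  haveI := GmComp.schDom (R := R) (K := K)
  refine Over.OverMorphism.ext (ChowLib.hom_ext_of_schDom ξK G.hom ?_ ?_)
  · rw [Over.w, Over.w]
  · exact congrArg CommaMorphism.left h2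

/-- The component group is a group of residue characteristic order. -/
theorem exists_pow_mem_component (p : ℕ) [Fact p.Prime] [CharP (IsLocalRing.ResidueField R) p]
    (G : Over (Spec (CommRingCat.of R))) [GrpObj G] [Smooth G.hom] [IsAffineHom G.hom]
    (e : Red.bc ξK G ≅ Red.Ga (Spec (CommRingCat.of K))) [IsMonHom e.hom]
    (j : Red.Ga (Spec (CommRingCat.of R)) ⟶ G) [IsMonHom j] [IsOpenImmersion j.left]
    (x : 𝟙_ (Over (Spec (CommRingCat.of (IsLocalRing.ResidueField R)))) ⟶ Red.bc sq G) :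
    ∃ m : ℕ, (x ^ (p ^ m)).left (IsLocalRing.closedPoint (IsLocalRing.ResidueField R) : PrimeSpectrum _) ∈
      connectedComponent ((1 : 𝟙_ (Over (Spec (CommRingCat.of (IsLocalRing.ResidueField R)))) ⟶ Red.bc sq G).left
        (IsLocalRing.closedPoint (IsLocalRing.ResidueField R) : PrimeSpectrum _)) := by
  haveI := isCommMonObj_model G e
  haveI : IsCommMonObj (Red.bc sq G) := Functor.isCommMonObj_obj (F := Over.pullback sq)
  -- the identity component of the special fibre
  obtain ⟨w, hw⟩ := BigCell.exists_bcGa (S := Spec (CommRingCat.of R)) sq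
  let P := (Over.pullback sq).map j
  haveI hP : IsMonHom (M := Red.bc sq (Red.Ga (Spec (CommRingCat.of R)))) (N := Red.bc sq G) P :=
    @Functor.map.instIsMonHom _ _ _ _ _ _ (Over.pullback sq) _ _ _ _ _ j _
  haveI := hw
  haveI : IsMonHom w.inv := inferInstance
  let j₀ : Red.Ga (Spec (CommRingCat.of (IsLocalRing.ResidueField R))) ⟶ Red.bc sq G := w.inv ≫ P
  haveI : IsMonHom j₀ := @instIsMonHomComp _ _ _ _ _ _ _ _ _ _ _ ‹IsMonHom w.inv› hP
  haveI : IsIso w.inv.left := (Over.forget _).map_isIso w.inv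
  haveI : IsOpenImmersion P.left :=
    MorphismProperty.baseChange_map (P := @IsOpenImmersion) sq j ‹IsOpenImmersion j.left›
  haveI : IsOpenImmersion j₀.left := inferInstanceAs (IsOpenImmersion (w.inv.left ≫ P.left))
  haveI : LocallyOfFiniteType (Red.bc sq G).hom := inferInstanceAs (LocallyOfFiniteType (pullback.snd G.hom sq))
  haveI : QuasiCompact (Red.bc sq G).hom := inferInstanceAs (QuasiCompact (pullback.snd G.hom sq))
  haveI : IsAffineHom (Red.bc sq G).hom := inferInstanceAs (IsAffineHom (pullback.snd G.hom sq))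
  haveI : IsNoetherian (Red.bc sq G).left := by
    haveI : IsLocallyNoetherian (Red.bc sq G).left := LocallyOfFiniteType.isLocallyNoetherian (Red.bc sq G).hom
    haveI : CompactSpace (Red.bc sq G).left := QuasiCompact.compactSpace_of_compactSpace (Red.bc sq G).hom
    exact {}
  haveI : QuasiCompact j₀.left := inferInstance
  haveI : LocallyOfFiniteType (Red.Ga (Spec (CommRingCat.of (IsLocalRing.ResidueField R)))).hom := by
    rw [← Over.w j₀]; infer_instance
  haveI : Mono j₀.left := inferInstance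
  haveI : IsClosedImmersion j₀.left := GrpHom.isClosedImmersion_of_mono_artinian (u := j₀)
  obtain ⟨N, hN, c, hc⟩ := SemiAbLib.exists_pow_component j₀
  obtain ⟨m, n, hn, rfl⟩ := Nat.exists_eq_pow_mul_and_not_dvd hN p (Fact.out : p.Prime).ne_one
  refine ⟨m, ?_⟩
  have hnk : (n : IsLocalRing.ResidueField R) ≠ 0 := fun h => hn ((CharP.cast_eq_zero_iff _ p n).1 h)
  have hnR : IsUnit (n : R) := by
    by_contra h
    exact hnk (by rw [← map_natCast (IsLocalRing.residue R)]; exact (IsLocalRing.residue_eq_zero_iff _).2 h)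
  obtain ⟨b, hb⟩ := GmComp.exists_root hnk (x ≫ c)
  have hy : (x ^ p ^ m * (b ≫ j₀)⁻¹) ^ n = 1 := by
    letI : CommGroup (𝟙_ (Over (Spec (CommRingCat.of (IsLocalRing.ResidueField R)))) ⟶ Red.bc sq G) := Hom.commGroup
    have ha : (x ^ p ^ m) ^ n = (x ≫ c) ≫ j₀ := by
      rw [Category.assoc, hc, MonObj.comp_pow, Category.comp_id, ← pow_mul]
    rw [mul_pow, inv_pow, ← MonObj.pow_comp, hb, ha, mul_inv_cancel]
  -- torsion of order prime to the characteristic is trivial
  let Y : Over (Spec (CommRingCat.of (IsLocalRing.ResidueField R))) := Over.mk (𝟙 _)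
  let ι₀ : Over.mk sq ⟶ (Over.map sq).obj Y := Over.homMk (𝟙 _) (by show 𝟙 _ ≫ 𝟙 _ ≫ sq = sq; simp)
  let y : (Over.map sq).obj Y ⟶ G := (adjEquiv (G := G) sq Y).symm (x ^ p ^ m * (b ≫ j₀)⁻¹)
  have hy' : y ^ n = 1 := by
    show ((adjEquiv (G := G) sq Y).symm _) ^ n = 1
    rw [← map_pow]
    exact (congrArg (adjEquiv (G := G) sq Y).symm hy).trans (map_one _)
  obtain ⟨σ, ⟨hσ1, hσ2⟩, -⟩ := TorsLiftLib.existsUnique_lift G n hnR (ι₀ ≫ y)
    (by rw [← MonObj.comp_pow, hy', MonObj.comp_one])
  rw [eq_one_of_pow_eq_one G e (fun h => hnk (by rw [h, Nat.cast_zero])) σ hσ1, MonObj.comp_one] at hσ2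
  have hy1 : y = 1 := by
    refine Over.OverMorphism.ext ?_
    have h2 := congrArg CommaMorphism.left hσ2
    simp only [ι₀, Over.comp_left, Over.homMk_left, Category.id_comp] at h2
    exact h2.symm
  have hx : x ^ p ^ m = 1 * (b ≫ j₀) := by
    have h : x ^ p ^ m * (b ≫ j₀)⁻¹ = 1 :=
      (adjEquiv (G := G) sq Y).symm.injective (hy1.trans (map_one _).symm)
    rw [_root_.one_mul]
    exact mul_inv_eq_one.1 h
  rw [hx]
  exact GmComp.mem_component j₀ 1 b

end GaComp

end
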