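import Groth.Agent.GaCompLib.Param

/-!
The parameter gives an open immersion of the additive group.
-/

set_option autoImplicit false
set_option linter.style.haveILetI false
set_option backward.isDefEq.respectTransparency false
set_option maxHeartbeats 1000000

noncomputable section

universe u

open Polynomial CategoryTheory AlgebraicGeometry
open scoped TensorProduct

namespace GaComp

variable {R : Type u} [CommRing R] [IsDomain R] [IsDiscreteValuationRing R] (K : Type u) [Field K] [Algebra R K]
  [IsFractionRing R K] {C : Type u} [CommRing C] [HopfAlgebra R C] [Module.Flat R C] [Algebra.Smooth R C]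
  [IsAlgClosed (IsLocalRing.ResidueField R)] {π : R} {m : ℕ} {x : C}
  (hx : Function.Bijective (aeval ((1 : K) ⊗ₜ[R] x) : K[X] →ₐ[K] K ⊗[R] C))
  (φ : C →ₐ[R] R[X])
  (hφ : ∀ c, (φ c).map (algebraMap R K) = (poly K x hx c).comp (Polynomial.C (algebraMap R K π ^ m) * X))

include hφ

omit [Algebra.Smooth R C] [IsAlgClosed (IsLocalRing.ResidueField R)] in
theorem injective_param (hπ : Irreducible π) : Function.Injective φ := by
  have hπK : algebraMap R K π ^ m ≠ 0 :=
    pow_ne_zero _ fun e => hπ.ne_zero (IsFractionRing.injective R K (e.trans (map_zero _).symm))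
  intro a b hab
  have h : (poly K x hx a).comp (Polynomial.C (algebraMap R K π ^ m) * X) =
      (poly K x hx b).comp (Polynomial.C (algebraMap R K π ^ m) * X) := by rw [← hφ, ← hφ, hab]
  have h1 := congrArg (fun p : K[X] => p.comp (Polynomial.C (algebraMap R K π ^ m)⁻¹ * X)) h
  have h2 : poly K x hx a = poly K x hx b := by
    simp only [comp_assoc, mul_comp, C_comp, X_comp, ← mul_assoc, ← Polynomial.C_mul, mul_inv_cancel₀ hπK,
      Polynomial.C_1, one_mul, comp_X] at h1
    exact h1
  refine Algebra.TensorProduct.includeRight_injective (IsFractionRing.injective R K) ?_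
  show (1 : K) ⊗ₜ[R] a = (1 : K) ⊗ₜ[R] b
  rw [← aeval_poly K x hx, h2, aeval_poly]

omit [Algebra.Smooth R C] [IsAlgClosed (IsLocalRing.ResidueField R)] in
theorem param_self : φ x = Polynomial.C (π ^ m) * X := by
  refine map_injective _ (IsFractionRing.injective R K) ?_
  rw [hφ, poly_self, X_comp, Polynomial.map_mul, Polynomial.map_C, map_X, map_pow (algebraMap R K)]

omit [Algebra.Smooth R C] [IsAlgClosed (IsLocalRing.ResidueField R)] in
theorem exists_pow_mul (s : R[X]) : ∃ (n : ℕ) (c : C), φ c = Polynomial.C (π ^ n) * s := by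
  induction s using Polynomial.induction_on with
  | C a => exact ⟨0, algebraMap R C a, by rw [AlgHom.commutes, pow_zero, map_one, one_mul]; rfl⟩
  | add p q hp hq =>
    obtain ⟨a, c, hc⟩ := hp
    obtain ⟨b, d, hd⟩ := hq
    refine ⟨a + b, algebraMap R C (π ^ b) * c + algebraMap R C (π ^ a) * d, ?_⟩
    rw [map_add, map_mul, map_mul, hc, hd, AlgHom.commutes, AlgHom.commutes, Polynomial.algebraMap_eq, pow_add, map_mul]
    ring
  | monomial n a h =>
    obtain ⟨i, c, hc⟩ := h
    refine ⟨i + m, c * x, ?_⟩
    rw [map_mul, hc, param_self K hx φ hφ, pow_add, map_mul, pow_succ]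
    ring

omit [IsAlgClosed (IsLocalRing.ResidueField R)] in
theorem finiteType_param : letI := φ.toRingHom.toAlgebra; Algebra.FiniteType C R[X] := by
  letI := φ.toRingHom.toAlgebra
  haveI : IsScalarTower R C R[X] := IsScalarTower.of_algebraMap_eq fun r => (φ.commutes r).symm
  exact Algebra.FiniteType.of_restrictScalars_finiteType R C R[X]

theorem quasiFinite_param (hπ : Irreducible π) (hdeg : ∃ c, ((φ c).map (IsLocalRing.residue R)).natDegree ≠ 0) :
    φ.toRingHom.QuasiFinite := by
  letI := φ.toRingHom.toAlgebra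
  haveI : Algebra.FiniteType C R[X] := finiteType_param K hx φ hφ
  show Algebra.QuasiFinite C R[X]
  rw [Algebra.QuasiFinite.iff_finite_primesOver]
  intro I hI
  classical
  let ρ : R[X] →+* (IsLocalRing.ResidueField R)[X] := mapRingHom (IsLocalRing.residue R)
  have hρ : Function.Surjective ρ := map_surjective _ IsLocalRing.residue_surjective
  have hmem : ∀ Q ∈ I.primesOver R[X], Q.IsPrime ∧ ∀ c, c ∈ I ↔ φ c ∈ Q := fun Q ⟨hQ, hlo⟩ =>
    ⟨hQ, fun c => by rw [hlo.over]; rfl⟩
  by_cases hπI : algebraMap R C π ∈ I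
  · -- over the special fibre
    have hker : ∀ Q ∈ I.primesOver R[X], RingHom.ker ρ ≤ Q := fun Q hQ z hz => by
      obtain ⟨z', rfl⟩ := (Polynomial.C_dvd_iff_dvd_coeff π z).2 fun i => by
        have h' := congrArg (fun p => p.coeff i) (show z.map (IsLocalRing.residue R) = 0 from hz)
        simp only [coeff_map, coeff_zero, IsLocalRing.residue_eq_zero_iff] at h'
        rwa [hπ.maximalIdeal_eq, Ideal.mem_span_singleton] at h'
      refine Q.mul_mem_right _ ?_
      have h := ((hmem Q hQ).2 _).1 hπI
      rwa [AlgHom.commutes] at h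
    have hprime : ∀ Q ∈ I.primesOver R[X], (Ideal.map ρ Q).IsPrime ∧ Ideal.comap ρ (Ideal.map ρ Q) = Q := fun Q hQ => by
      haveI := (hmem Q hQ).1
      exact ⟨Ideal.map_isPrime_of_surjective hρ (hker Q hQ),
        by rw [Ideal.comap_map_of_surjective _ hρ, ← RingHom.ker_eq_comap_bot, sup_eq_left.2 (hker Q hQ)]⟩
    -- nonzero primes are points
    have hpt : ∀ Q ∈ I.primesOver R[X], ∀ f ∈ Ideal.map ρ Q, f ≠ 0 →
        ∃ a ∈ f.roots, Q = Ideal.comap ρ (Ideal.span {X - Polynomial.C a}) := fun Q hQ f hf hf0 => by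
      haveI := (hprime Q hQ).1
      rw [(IsAlgClosed.splits f).eq_prod_roots] at hf
      obtain h | h := (Ideal.IsPrime.mem_or_mem ‹_› hf)
      · exact absurd (Ideal.eq_top_of_isUnit_mem _ h (isUnit_C.2 (isUnit_iff_ne_zero.2 (leadingCoeff_ne_zero.2 hf0))))
          (Ideal.IsPrime.ne_top ‹_›)
      · obtain ⟨g, hg, hgQ⟩ := (Ideal.IsPrime.multiset_prod_mem_iff_exists_mem ‹_› _).1 h
        obtain ⟨a, ha, rfl⟩ := Multiset.mem_map.1 hg
        haveI : (Ideal.span {X - Polynomial.C a}).IsMaximal :=
          PrincipalIdealRing.isMaximal_of_irreducible (irreducible_X_sub_C a)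
        refine ⟨a, ha, ?_⟩
        rw [Ideal.IsMaximal.eq_of_le ‹(Ideal.span {X - Polynomial.C a}).IsMaximal› (Ideal.IsPrime.ne_top ‹_›)
          ((Ideal.span_singleton_le_iff_mem _).2 hgQ), (hprime Q hQ).2]
    by_cases hc : ∃ c ∈ I, ρ (φ c) ≠ 0
    · obtain ⟨c, hcI, hc0⟩ := hc
      refine (((ρ (φ c)).roots.toFinset.finite_toSet).image
        fun a => Ideal.comap ρ (Ideal.span {X - Polynomial.C a})).subset fun Q hQ => ?_
      obtain ⟨a, ha, e⟩ := hpt Q hQ _ (Ideal.mem_map_of_mem ρ (((hmem Q hQ).2 c).1 hcI)) hc0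
      exact ⟨a, Multiset.mem_toFinset.2 ha, e.symm⟩
    · refine (Set.finite_singleton (RingHom.ker ρ)).subset fun Q hQ => ?_
      show Q = RingHom.ker ρ
      rw [← (hprime Q hQ).2, RingHom.ker_eq_comap_bot]
      congr 1
      by_contra hne
      obtain ⟨f, hf, hf0⟩ := Submodule.exists_mem_ne_zero_of_ne_bot hne
      obtain ⟨a, -, e⟩ := hpt Q hQ f hf hf0
      obtain ⟨c₀, hc₀⟩ := hdeg
      obtain ⟨r, hr⟩ := IsLocalRing.residue_surjective ((ρ (φ c₀)).eval a)
      refine hc ⟨c₀ - algebraMap R C r, ((hmem Q hQ).2 _).2 ?_, ?_⟩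
      · rw [e, Ideal.mem_comap, Ideal.mem_span_singleton, dvd_iff_isRoot, map_sub, map_sub, AlgHom.commutes]
        show eval a (ρ (φ c₀) - (Polynomial.C r).map (IsLocalRing.residue R)) = 0
        rw [eval_sub, Polynomial.map_C, eval_C, hr, sub_self]
      · intro h
        apply hc₀
        rw [map_sub, map_sub, sub_eq_zero, AlgHom.commutes] at h
        show (ρ (φ c₀)).natDegree = 0
        rw [h]
        show ((Polynomial.C r).map _).natDegree = 0
        rw [Polynomial.map_C, natDegree_C]
  · -- over the generic fibre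
    refine (Set.Subsingleton.finite fun Q hQ Q' hQ' => ?_)
    have key : ∀ Q ∈ I.primesOver R[X], ∀ (s : R[X]) (n : ℕ) (c : C), φ c = Polynomial.C (π ^ n) * s →
        (s ∈ Q ↔ c ∈ I) := fun Q hQ s n c hc => by
      rw [(hmem Q hQ).2, hc]
      refine ⟨Q.mul_mem_left _, fun h => ((hmem Q hQ).1.mem_or_mem h).resolve_left fun h' => hπI ?_⟩
      rw [map_pow] at h'
      rw [(hmem Q hQ).2, AlgHom.commutes]
      exact (hmem Q hQ).1.mem_of_pow_mem n h'
    refine Ideal.ext fun s => ?_
    obtain ⟨n, c, hc⟩ := exists_pow_mul K hx φ hφ s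
    rw [key Q hQ s n c hc, key Q' hQ' s n c hc]

theorem isOpenImmersion_param (hπ : Irreducible π) (hdeg : ∃ c, ((φ c).map (IsLocalRing.residue R)).natDegree ≠ 0) :
    IsOpenImmersion (Spec.map (CommRingCat.ofHom φ.toRingHom)) := by
  have hinj := injective_param K hx φ hφ hπ
  haveI : IsDomain C := Function.Injective.isDomain (φ : C →+* R[X]) hinj
  haveI : IsRegularRing C := CohenLib.isRegularRing_of_smooth R C
  haveI : IsNoetherianRing C := Algebra.FiniteType.isNoetherianRing R C
  let g := Spec.map (CommRingCat.ofHom φ.toRingHom)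
  haveI : LocallyOfFiniteType g := by
    refine (HasRingHomProperty.Spec_iff (P := @LocallyOfFiniteType)).2 ?_
    exact finiteType_param K hx φ hφ
  haveI : LocallyQuasiFinite g :=
    (HasRingHomProperty.Spec_iff (P := @LocallyQuasiFinite)).2 (quasiFinite_param K hx φ hφ hπ hdeg)
  have hN : ∀ y : Spec (CommRingCat.of C), IsIntegrallyClosed ((Spec (CommRingCat.of C)).presheaf.stalk y) := fun y => by
    haveI := IsRegularRing.isRegularLocalRing_localization y.asIdeal
    haveI := NormalLib.isIntegrallyClosed_of_isRegularLocalRing (Localization.AtPrime y.asIdeal)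
    exact IsIntegrallyClosed.of_equiv
      (IsLocalization.algEquiv y.asIdeal.primeCompl (Localization.AtPrime y.asIdeal)
        ((Spec.structureSheaf C).presheaf.stalk y)).toRingEquiv
  -- birationality
  let b : C := algebraMap R C π
  let ψ := Localization.awayMap φ.toRingHom b
  have hψ : Function.Bijective ψ := by
    refine ⟨IsLocalization.map_injective_of_injective (Submonoid.powers b) (Localization.Away b)
      (Localization.Away (φ.toRingHom b)) hinj |> fun h => ?_, fun z => ?_⟩
    · intro u v huv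
      obtain ⟨a, s, rfl⟩ := IsLocalization.exists_mk'_eq (Submonoid.powers b) u
      obtain ⟨a', s', rfl⟩ := IsLocalization.exists_mk'_eq (Submonoid.powers b) v
      simp only [ψ, Localization.awayMap, IsLocalization.Away.map, IsLocalization.map_mk'] at huv
      rw [IsLocalization.mk'_eq_iff_eq] at huv ⊢
      have hne : algebraMap R R[X] π ≠ 0 := by
        rw [Polynomial.algebraMap_eq, Ne, C_eq_zero]; exact hπ.ne_zero
      have hle : Submonoid.powers (φ.toRingHom b) ≤ nonZeroDivisors R[X] := powers_le_nonZeroDivisors_of_noZeroDivisors (by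
        show φ b ≠ 0
        rw [AlgHom.commutes]; exact hne)
      have h1 := IsLocalization.injective (Localization.Away (φ.toRingHom b)) hle huv
      simp only [← map_mul] at h1
      exact congrArg _ (hinj h1)
    · obtain ⟨s, ⟨_, j, rfl⟩, rfl⟩ := IsLocalization.exists_mk'_eq (Submonoid.powers (φ.toRingHom b)) z
      obtain ⟨n, c, hc⟩ := exists_pow_mul K hx φ hφ s
      refine ⟨IsLocalization.mk' (Localization.Away b) c (⟨b ^ (n + j), n + j, rfl⟩ : Submonoid.powers b), ?_⟩
      simp only [ψ, Localization.awayMap, IsLocalization.Away.map, IsLocalization.map_mk']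
      rw [IsLocalization.mk'_eq_iff_eq]
      congr 1
      show φ.toRingHom b ^ j * φ c = φ.toRingHom (b ^ (n + j)) * s
      show φ b ^ j * φ c = φ (b ^ (n + j)) * s
      simp only [b, hc, map_pow, map_mul, AlgHom.commutes, Polynomial.algebraMap_eq, pow_add]
      ring
  let iS := Spec.map (CommRingCat.ofHom (algebraMap R[X] (Localization.Away (φ.toRingHom b))))
  haveI : IsIso (CommRingCat.ofHom ψ) := (ConcreteCategory.isIso_iff_bijective _).2 hψ
  have hsq : iS ≫ g = Spec.map (CommRingCat.ofHom ψ) ≫ Spec.map (CommRingCat.ofHom (algebraMap C (Localization.Away b))) := by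
    rw [← Spec.map_comp, ← Spec.map_comp, ← CommRingCat.ofHom_comp, ← CommRingCat.ofHom_comp]
    congr 2
    refine RingHom.ext fun c => ?_
    simp [ψ, Localization.awayMap, IsLocalization.Away.map]
  haveI : IsOpenImmersion iS := IsOpenImmersion.of_isLocalization (φ.toRingHom b)
  haveI : IsOpenImmersion (iS ≫ g) := by
    rw [hsq]
    haveI : IsOpenImmersion (Spec.map (CommRingCat.ofHom (algebraMap C (Localization.Away b)))) :=
      IsOpenImmersion.of_isLocalization b
    infer_instance
  have hbir : PurBirLib.Bir g := by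
    refine PurBirLib.bir_of_open g ⟨iS.opensRange, ?_, ?_⟩
    · haveI : Nontrivial (Localization.Away (φ.toRingHom b)) :=
        (IsLocalization.injective (Localization.Away (φ.toRingHom b))
          (powers_le_nonZeroDivisors_of_noZeroDivisors (show φ.toRingHom b ≠ 0 by
            show φ b ≠ 0
            rw [AlgHom.commutes, Polynomial.algebraMap_eq, Ne, C_eq_zero]; exact hπ.ne_zero))).nontrivial
      obtain ⟨p⟩ : Nonempty (Spec (CommRingCat.of (Localization.Away (φ.toRingHom b)))) :=
        inferInstanceAs (Nonempty (PrimeSpectrum (Localization.Away (φ.toRingHom b))))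
      exact ⟨iS p, p, rfl⟩
    · rw [← iS.isoOpensRange_inv_comp, Category.assoc]
      infer_instance
  exact PurBirLib.isOpenImmersion_of_quasiFinite g hbir hN fun y => g.quasiFiniteAt y

end GaComp

end
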