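import Groth.Agent.GaCompLib.Algebra
import Groth.Agent.DiagRepLib.Scheme
import Groth.Agent.PurBirLib.Apps
import Groth.Agent.CohenLib.RegularField
import Groth.Agent.NormalLib.Regular
import Mathlib.LinearAlgebra.SymmetricAlgebra.Basis
import Mathlib.RingTheory.Bialgebra.Convolution

/-!
The parameter of the identity component of a smooth model of the additive group.
-/

set_option autoImplicit false
set_option linter.style.haveILetI false
set_option backward.isDefEq.respectTransparency false
set_option maxHeartbeats 1000000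

noncomputable section

universe u

open Polynomial WithConv CategoryTheory AlgebraicGeometry
open scoped TensorProduct

namespace GaComp

variable {R : Type u} [CommRing R] [IsDomain R] [IsDiscreteValuationRing R] (K : Type u) [Field K] [Algebra R K]
  [IsFractionRing R K] {C : Type u} [CommRing C] [HopfAlgebra R C] [Module.Flat R C] [Algebra.Smooth R C]
  [IsAlgClosed (IsLocalRing.ResidueField R)]

omit [IsDomain R] [IsDiscreteValuationRing R] [Field K] [Algebra R K] [IsFractionRing R K] [Module.Flat R C]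
  [Algebra.Smooth R C] [IsAlgClosed (IsLocalRing.ResidueField R)] in
theorem mul_apply_primitive {x : C} (hx : CoalgebraStruct.comul (R := R) x = x ⊗ₜ[R] (1 : C) + (1 : C) ⊗ₜ[R] x)
    (f g : WithConv (C →ₐ[R] R)) : (f * g).ofConv x = f.ofConv x + g.ofConv x := by
  rw [AlgHom.convMul_apply, hx]
  simp

omit [Algebra.Smooth R C] [IsAlgClosed (IsLocalRing.ResidueField R)] in
/-- The parameter of a point determines its residue to some precision. -/
theorem exists_precision [Algebra.FiniteType R C] (x : C)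
    (hx : Function.Bijective (aeval ((1 : K) ⊗ₜ[R] x) : K[X] →ₐ[K] K ⊗[R] C)) {π : R} (hπ : Irreducible π) :
    ∃ N : ℕ, ∀ g h : C →ₐ[R] R, π ^ N ∣ g x - h x →
      (Algebra.ofId R (IsLocalRing.ResidueField R)).comp g = (Algebra.ofId R (IsLocalRing.ResidueField R)).comp h := by
  classical
  obtain ⟨s, hs⟩ := Algebra.FiniteType.out (R := R) (A := C)
  have key : ∀ c, ∃ N : ℕ, ∀ g h : C →ₐ[R] R, π ^ N ∣ g x - h x → π ∣ g c - h c := fun c => by
    obtain ⟨b, hb⟩ := IsLocalization.integerNormalization_map_to_map (nonZeroDivisors R) (poly K x hx c)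
    set Q := IsLocalization.integerNormalization (nonZeroDivisors R) (poly K x hx c)
    obtain ⟨n, w, hw⟩ := IsDiscreteValuationRing.eq_unit_mul_pow_irreducible (nonZeroDivisors.ne_zero b.2) hπ
    have hQ : ∀ g : C →ₐ[R] R, Q.eval (g x) = b * g c := fun g => IsFractionRing.injective R K (by
      rw [← eval₂_at_apply, ← Polynomial.eval_map, hb, ← algebraMap_smul K, eval_smul, eval_poly, smul_eq_mul, map_mul])
    refine ⟨n + 1, fun g h hgh => ?_⟩
    have h1 := hgh.trans (sub_dvd_eval_sub (g x) (h x) Q)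
    rw [hQ, hQ, ← mul_sub, hw, mul_assoc, Units.dvd_mul_left, pow_succ] at h1
    exact (mul_dvd_mul_iff_left (pow_ne_zero _ hπ.ne_zero)).1 h1
  choose N hN using key
  refine ⟨s.sup N, fun g h hgh => AlgHom.ext_of_adjoin_eq_top hs fun c hc => ?_⟩
  show IsLocalRing.residue R (g c) = IsLocalRing.residue R (h c)
  rw [← sub_eq_zero, ← map_sub, IsLocalRing.residue_eq_zero_iff, hπ.maximalIdeal_eq, Ideal.mem_span_singleton]
  exact hN c g h ((pow_dvd_pow π (Finset.le_sup hc)).trans hgh)

omit [Field K] [Algebra R K] [IsFractionRing R K] [Module.Flat R C] [Algebra.Smooth R C]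
  [IsAlgClosed (IsLocalRing.ResidueField R)] in
/-- The differences of parameters are parameters. -/
theorem finite_mod {x : C} (hxp : CoalgebraStruct.comul (R := R) x = x ⊗ₜ[R] (1 : C) + (1 : C) ⊗ₜ[R] x)
    {π : R} (hπ : Irreducible π) (m : ℕ)
    (hfin : ∀ j < m, {s : IsLocalRing.ResidueField R | ∃ (g : C →ₐ[R] R) (r : R), g x = π ^ j * r ∧
      IsLocalRing.residue R r = s}.Finite) :
    ∃ F : Set (C →ₐ[R] R), F.Finite ∧ ∀ g : C →ₐ[R] R, ∃ f ∈ F, π ^ m ∣ g x - f x := by
  induction m with
  | zero => exact ⟨{Bialgebra.counitAlgHom R C}, Set.finite_singleton _, fun g => ⟨_, rfl, by simp⟩⟩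
  | succ m ih =>
    obtain ⟨F, hF, hFm⟩ := ih fun j hj => hfin j (by omega)
    let S := {s : IsLocalRing.ResidueField R | ∃ (g : C →ₐ[R] R) (r : R), g x = π ^ m * r ∧
      IsLocalRing.residue R r = s}
    choose G r hG hr using fun s : S => s.2
    haveI : Finite S := (hfin m (Nat.lt_succ_self m)).to_subtype
    refine ⟨(fun p : (C →ₐ[R] R) × S => (toConv p.1 * toConv (G p.2)).ofConv) '' (F ×ˢ Set.univ),
      (hF.prod Set.finite_univ).image _, fun g => ?_⟩
    obtain ⟨f, hf, t, ht⟩ := hFm g
    have hd : ((toConv f)⁻¹ * toConv g).ofConv x = π ^ m * t := by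
      have h := mul_apply_primitive hxp (toConv f) ((toConv f)⁻¹ * toConv g)
      rw [mul_inv_cancel_left] at h
      rw [← ht]
      exact (eq_sub_of_add_eq' h.symm).trans rfl
    let s : S := ⟨IsLocalRing.residue R t, _, t, hd, rfl⟩
    refine ⟨_, ⟨(f, s), ⟨hf, trivial⟩, rfl⟩, ?_⟩
    have h1 : π ∣ t - r s := by
      rw [← Ideal.mem_span_singleton, ← hπ.maximalIdeal_eq, ← IsLocalRing.residue_eq_zero_iff, map_sub, hr s, sub_self]
    obtain ⟨w, hw⟩ := h1
    refine ⟨w, ?_⟩
    show g x - (toConv f * toConv (G s)).ofConv x = _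
    rw [mul_apply_primitive hxp]
    show g x - (f x + G s x) = _
    rw [hG, pow_succ, mul_assoc, ← hw, mul_sub, ← ht]
    ring

variable [HenselianRing R (IsLocalRing.maximalIdeal R)]

/-- An integral parameter with nonconstant reduction. -/
theorem exists_param {x : C} (hxp : CoalgebraStruct.comul (R := R) x = x ⊗ₜ[R] (1 : C) + (1 : C) ⊗ₜ[R] x)
    (hx : Function.Bijective (aeval ((1 : K) ⊗ₜ[R] x) : K[X] →ₐ[K] K ⊗[R] C)) {π : R} (hπ : Irreducible π) :
    ∃ (m : ℕ) (φ : C →ₐ[R] R[X]),
      (∀ c, (φ c).map (algebraMap R K) = (poly K x hx c).comp (Polynomial.C (algebraMap R K π ^ m) * X)) ∧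
      ∃ c, ((φ c).map (IsLocalRing.residue R)).natDegree ≠ 0 := by
  classical
  haveI := infinite_points K x hxp hx
  let red : (C →ₐ[R] R) → (C →ₐ[R] IsLocalRing.ResidueField R) := fun g =>
    (Algebra.ofId R (IsLocalRing.ResidueField R)).comp g
  have hsurj : Function.Surjective red := fun g => by
    obtain ⟨τ, hτ⟩ := HenselLib.exists_point_lift C (g : C →ₐ[R] R ⧸ IsLocalRing.maximalIdeal R)
    exact ⟨τ, hτ⟩
  have hnfin : ∀ F : Set (C →ₐ[R] R), F.Finite → ¬∀ g, ∃ f ∈ F, red g = red f := fun F hF h => by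
    refine Set.infinite_univ ((hF.image red).subset fun z _ => ?_)
    obtain ⟨g, rfl⟩ := hsurj z
    obtain ⟨f, hf, e⟩ := h g
    exact ⟨f, hf, e.symm⟩
  let S := fun j => {s : IsLocalRing.ResidueField R | ∃ (g : C →ₐ[R] R) (r : R), g x = π ^ j * r ∧
      IsLocalRing.residue R r = s}
  have hex : ∃ j, (S j).Infinite := by
    by_contra h
    simp only [not_exists, Set.not_infinite] at h
    obtain ⟨N, hN⟩ := exists_precision K x hx hπ
    obtain ⟨F, hF, hFm⟩ := finite_mod hxp hπ N fun j _ => h j
    exact hnfin F hF fun g => (hFm g).imp fun f hf => ⟨hf.1, hN g f hf.2⟩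
  obtain ⟨m, hm, hmin⟩ : ∃ m, (S m).Infinite ∧ ∀ j < m, (S j).Finite :=
    ⟨_, Nat.find_spec hex, fun j hj => Set.not_infinite.1 (Nat.find_min hex hj)⟩
  let scale : K[X] →ₐ[R] K[X] := (aeval (Polynomial.C (algebraMap R K π ^ m) * X) : K[X] →ₐ[K] K[X]).restrictScalars R
  have hint : ∀ c, ∃ q : R[X], q.map (algebraMap R K) = scale (poly K x hx c) := fun c =>
    exists_integral K hm _ fun s ⟨g, r, hg, hr⟩ => ⟨r, hr, g c, by
      show (aeval (Polynomial.C (algebraMap R K π ^ m) * X) (poly K x hx c)).eval (algebraMap R K r) = _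
      rw [← comp_eq_aeval, eval_comp, eval_mul, eval_C, eval_X, ← map_pow, ← map_mul, ← hg, eval_poly]⟩
  let M : R[X] →ₐ[R] K[X] := mapAlgHom (Algebra.ofId R K)
  have hM : Function.Injective M := map_injective _ (IsFractionRing.injective R K)
  choose q hq using hint
  have hq' : ∀ c, M (q c) = (scale.comp (poly K x hx)) c := hq
  let φ : C →ₐ[R] R[X] :=
    { toFun := q
      map_one' := hM (by rw [hq', map_one, map_one])
      map_mul' := fun a b => hM (by rw [hq', map_mul, map_mul, hq', hq'])
      map_zero' := hM (by rw [hq', map_zero, map_zero])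
      map_add' := fun a b => hM (by rw [hq', map_add, map_add, hq', hq'])
      commutes' := fun a => hM (by rw [hq', AlgHom.commutes, AlgHom.commutes]) }
  refine ⟨m, φ, fun c => (hq c).trans comp_eq_aeval.symm, ?_⟩
  by_contra hc
  simp only [not_exists, not_not] at hc
  -- all points in the component reduce to the unit
  have hred : ∀ (p : C →ₐ[R] R) (r : R), p x = π ^ m * r → red p = red (Bialgebra.counitAlgHom R C) := fun p r hp => by
    refine AlgHom.ext fun c => ?_
    show IsLocalRing.residue R (p c) = IsLocalRing.residue R (Bialgebra.counitAlgHom R C c)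
    have ev : ∀ (g : C →ₐ[R] R) (s : R), g x = π ^ m * s → (q c).eval s = g c := fun g s hg =>
      IsFractionRing.injective R K (by
        rw [← eval₂_at_apply, ← Polynomial.eval_map, hq]
        show (aeval (Polynomial.C (algebraMap R K π ^ m) * X) (poly K x hx c)).eval _ = _
        rw [← comp_eq_aeval, eval_comp, eval_mul, eval_C, eval_X, ← map_pow, ← map_mul, ← hg, eval_poly])
    rw [← ev p r hp, ← ev (Bialgebra.counitAlgHom R C) 0 (by rw [mul_zero, counit_eq_zero x hxp]),
      ← eval₂_at_apply, ← eval₂_at_apply, ← Polynomial.eval_map, ← Polynomial.eval_map,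
      eq_C_of_natDegree_eq_zero (show ((q c).map (IsLocalRing.residue R)).natDegree = 0 from hc c), eval_C, eval_C]
  obtain ⟨F, hF, hFm⟩ := finite_mod hxp hπ m hmin
  refine hnfin F hF fun g => ?_
  obtain ⟨f, hf, r, hr⟩ := hFm g
  refine ⟨f, hf, ?_⟩
  let p : C →ₐ[R] R := ((toConv f)⁻¹ * toConv g).ofConv
  have hg : g = (toConv f * toConv p).ofConv := by
    show g = (toConv f * ((toConv f)⁻¹ * toConv g)).ofConv
    rw [mul_inv_cancel_left]
  have hp : p x = π ^ m * r := by
    have h := congrArg (fun t : C →ₐ[R] R => t x) hg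
    rw [mul_apply_primitive hxp] at h
    rw [← hr, h]
    simp
  show (Algebra.ofId R _).comp g = red f
  rw [hg, AlgHom.comp_convMul_distrib, show (Algebra.ofId R (IsLocalRing.ResidueField R)).comp (toConv p).ofConv =
    (Algebra.ofId R (IsLocalRing.ResidueField R)).comp (1 : WithConv (C →ₐ[R] R)).ofConv from
      (hred p r hp).trans rfl, ← AlgHom.comp_convMul_distrib, mul_one]

end GaComp

end
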