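import Groth.Agent.GaCompLib.Open
import Groth.Agent.S14904

/-!
The open immersion of the additive group into a model.
-/

set_option autoImplicit false
set_option linter.style.haveILetI false
set_option backward.isDefEq.respectTransparency false
set_option backward.isDefEq.respectTransparency.types false
set_option maxHeartbeats 1000000

noncomputable section

universe u

open CategoryTheory MonoidalCategory CartesianMonoidalCategory AlgebraicGeometry CoactBr
open scoped MonObj TensorProduct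
open Polynomial (aeval)
open Groth.Agent

attribute [-instance] CategoryTheory.Hom.commGroup

namespace GaComp

variable {R : Type u} [CommRing R] [IsDomain R] [IsDiscreteValuationRing R] (K : Type u) [Field K] [Algebra R K]
  [IsFractionRing R K] {C : Type u} [CommRing C] [HopfAlgebra R C] [Algebra.Smooth R C]
  [IsAlgClosed (IsLocalRing.ResidueField R)] [HenselianRing R (IsLocalRing.maximalIdeal R)]

theorem exists_field_generator (Ψ : sp K (SymmetricAlgebra K K) ⟶ sp K (K ⊗[R] C)) [IsIso Ψ] [IsMonHom (inv Ψ)] :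
    ∃ y : K ⊗[R] C, CoalgebraStruct.comul (R := K) y = y ⊗ₜ[K] (1 : K ⊗[R] C) + (1 : K ⊗[R] C) ⊗ₜ[K] y ∧
      Function.Bijective (aeval y : Polynomial K →ₐ[K] K ⊗[R] C) := by
  obtain ⟨f, hf⟩ := DiagRep.exists_pt Ψ
  obtain ⟨f', hf'⟩ := DiagRep.exists_pt (inv Ψ)
  have h1 : f.comp f' = AlgHom.id K _ := pt_injective (by rw [pt_comp, ← hf, ← hf', IsIso.hom_inv_id, pt_id])
  have h2 : f'.comp f = AlgHom.id K _ := pt_injective (by rw [pt_comp, ← hf, ← hf', IsIso.inv_hom_id, pt_id])
  let E : (K ⊗[R] C) ≃ₐ[K] SymmetricAlgebra K K := AlgEquiv.ofAlgHom f f' h1 h2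
  haveI : IsMonHom (pt f') := hf' ▸ (inferInstance : IsMonHom (inv Ψ))
  refine ⟨f' (SymmetricAlgebra.ι K K 1), ?_, fun P Q hPQ => ?_, fun z => ?_⟩
  · have h := DFunLike.congr_fun (S14904.comul_comp f') (SymmetricAlgebra.ι K K 1)
    simp only [AlgHom.comp_apply, Bialgebra.comulAlgHom_apply] at h
    rw [← h]
    simp
  · have hinv : ∀ q : Polynomial K, SymmetricAlgebra.lift (LinearMap.toSpanSingleton K (Polynomial K) Polynomial.X)
        (aeval (SymmetricAlgebra.ι K K 1) q) = q := fun q => by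
      rw [← Polynomial.aeval_algHom_apply]
      simp
    rw [Polynomial.aeval_algHom_apply f', Polynomial.aeval_algHom_apply f'] at hPQ
    have h := (E.symm.injective hPQ : _)
    rw [← hinv P, h, hinv]
  · obtain ⟨p, hp⟩ := S14904.aeval_gen_surjective (R := K) (E z)
    refine ⟨p, ?_⟩
    rw [Polynomial.aeval_algHom_apply, hp]
    exact E.symm_apply_apply z

/-- The additive group is an open subgroup of the model. -/
theorem exists_hom {x : C} (hxp : CoalgebraStruct.comul (R := R) x = x ⊗ₜ[R] (1 : C) + (1 : C) ⊗ₜ[R] x)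
    (hx : Function.Bijective (aeval ((1 : K) ⊗ₜ[R] x) : Polynomial K →ₐ[K] K ⊗[R] C)) :
    ∃ ψ : C →ₐ[R] SymmetricAlgebra R R, IsMonHom (pt ψ) ∧ IsOpenImmersion (pt ψ).left := by
  haveI : Module.Flat R C := inferInstance
  obtain ⟨π, hπ⟩ := IsDiscreteValuationRing.exists_irreducible R
  obtain ⟨m, φ, hφ, hdeg⟩ := exists_param K hxp hx hπ
  let gen : SymmetricAlgebra R R := SymmetricAlgebra.ι R R 1
  let toS : Polynomial R →ₐ[R] SymmetricAlgebra R R := aeval gen
  let back : SymmetricAlgebra R R →ₐ[R] Polynomial R :=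
    SymmetricAlgebra.lift (LinearMap.toSpanSingleton R (Polynomial R) Polynomial.X)
  have hb1 : ∀ q, back (toS q) = q := fun q => by
    show back (aeval gen q) = q
    rw [← Polynomial.aeval_algHom_apply]
    simp [back, gen]
  have htoS : Function.Bijective toS :=
    ⟨fun a b h => by rw [← hb1 a, h, hb1], S14904.aeval_gen_surjective⟩
  let ψ := toS.comp φ
  refine ⟨ψ, ?_, ?_⟩
  · refine DiagRep.isMonHom_pt ψ (AlgHom.ext fun c => ?_) (AlgHom.ext fun c => ?_)
    · show Bialgebra.counitAlgHom R _ (aeval gen (φ c)) = Bialgebra.counitAlgHom R C c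
      rw [← Polynomial.aeval_algHom_apply, show Bialgebra.counitAlgHom R _ gen = 0 by
        simp [gen, SymmetricAlgebra.algebraMapInv], ← Polynomial.coeff_zero_eq_aeval_zero]
      refine IsFractionRing.injective R K ?_
      rw [← Polynomial.coeff_map, hφ, Polynomial.coeff_zero_eq_eval_zero, Polynomial.eval_comp, Polynomial.eval_mul,
        Polynomial.eval_X, mul_zero, ← eval_poly K x hx (Bialgebra.counitAlgHom R C) c, counit_eq_zero x hxp, map_zero]
    · haveI : Module.Flat R (SymmetricAlgebra R R) := inferInstance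
      refine tmap_injective K (SymmetricAlgebra R R) ?_
      show tmap K _ (Algebra.TensorProduct.map ψ ψ (CoalgebraStruct.comul (R := R) c)) =
        tmap K _ (CoalgebraStruct.comul (R := R) (ψ c))
      rw [tmap_map, tmap_comul, tmap_comul]
      let Φ : K ⊗[R] C →ₐ[K] K ⊗[R] SymmetricAlgebra R R := Algebra.TensorProduct.map (AlgHom.id K K) ψ
      show Algebra.TensorProduct.map Φ Φ (CoalgebraStruct.comul (R := K) ((1 : K) ⊗ₜ[R] c)) =
        CoalgebraStruct.comul (R := K) (Φ ((1 : K) ⊗ₜ[R] c))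
      have hψx : ψ x = π ^ m • gen := by
        show aeval gen (φ x) = _
        rw [param_self K hx φ hφ, map_mul, Polynomial.aeval_C, Polynomial.aeval_X, Algebra.smul_def]
      have hΦx : Φ ((1 : K) ⊗ₜ[R] x) = algebraMap R K (π ^ m) • ((1 : K) ⊗ₜ[R] gen) := by
        show (1 : K) ⊗ₜ[R] ψ x = _
        rw [hψx, TensorProduct.tmul_smul, algebraMap_smul]
      have key : ((Algebra.TensorProduct.map Φ Φ).comp (Bialgebra.comulAlgHom K _)).comp (aeval ((1 : K) ⊗ₜ[R] x)) =
          ((Bialgebra.comulAlgHom K _).comp Φ).comp (aeval ((1 : K) ⊗ₜ[R] x)) := by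
        refine Polynomial.algHom_ext ?_
        simp only [AlgHom.comp_apply, Polynomial.aeval_X, Bialgebra.comulAlgHom_apply]
        have hΦ1 : Φ ((1 : K) ⊗ₜ[R] (1 : C)) = (1 : K) ⊗ₜ[R] (1 : SymmetricAlgebra R R) := by
          show (1 : K) ⊗ₜ[R] ψ 1 = _
          rw [map_one]
        rw [hΦx, ← tmap_comul, hxp, map_add, map_add, tmap_tmul, tmap_tmul, map_smul, ← tmap_comul,
          show CoalgebraStruct.comul (R := R) gen = gen ⊗ₜ[R] 1 + 1 ⊗ₜ[R] gen by simp [gen],
          map_add, tmap_tmul, tmap_tmul]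
        show Φ ((1 : K) ⊗ₜ[R] x) ⊗ₜ[K] Φ ((1 : K) ⊗ₜ[R] (1 : C)) +
          Φ ((1 : K) ⊗ₜ[R] (1 : C)) ⊗ₜ[K] Φ ((1 : K) ⊗ₜ[R] x) = _
        rw [hΦx, hΦ1]
        generalize algebraMap R K (π ^ m) = r, (1 : K) ⊗ₜ[R] gen = a, (1 : K) ⊗ₜ[R] (1 : SymmetricAlgebra R R) = b
        rw [smul_add, TensorProduct.smul_tmul', ← TensorProduct.tmul_smul]
      have h := DFunLike.congr_fun key (poly K x hx c)
      simpa only [AlgHom.comp_apply, aeval_poly, Bialgebra.comulAlgHom_apply] using h
  · haveI : IsIso (CommRingCat.ofHom toS.toRingHom) := (ConcreteCategory.isIso_iff_bijective _).2 htoS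
    haveI := isOpenImmersion_param K hx φ hφ hπ hdeg
    rw [pt_left, show CommRingCat.ofHom ψ.toRingHom = CommRingCat.ofHom φ.toRingHom ≫ CommRingCat.ofHom toS.toRingHom
      from rfl, Spec.map_comp]
    infer_instance

end GaComp

end
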